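import Cfsg.Agent.Lib.CosetEnum.Defs

/-! Generated table data. -/

set_option autoImplicit false
set_option maxRecDepth 20000

namespace Cfsg.Lib.CosetEnum.ONL37

/-- Table data. -/
def orb0_0_0 : Tab :=
  (.node 1 (.leaf 0x5600005000009000006400005000008000006b00005000007000006e0000440000d00000600000400000d00000610000400000c00000520000400000a000004e00004000009000002400004000002000005500003c0000d000001600003c00002000003400003c00001000005c0000380000d00000500000380000a000004a0000380000900000690000340000d000003c0000340000a00000300000300000d000001b00002c0000a000002a0000280000d000001d0000280000a00000320000280000900000460000240000b00000450000240000a000006d00002400008000003e00002400006000000500002400002000000b0000240000000000420000200000d000003b00002000006000000200002000004000002300002000002000000d00002000001000000e00002000000000006300001c0000900000540000180000d00000110000140000a00000170000140000900000250000140000800000120000100000d000002c0000100000a000002100001000009000001300001000008000003a00000c00006000000100000c00004000004b0000080000d000004c0000080000c000005a0000080000a000006500000800009000005e00000800008000005100000800007000001800000800005000002d00000800003000001e0000080000100000440000040000a000004700000400009000005700000400008000006600000400007000000800000400003000003600000400002000004100000000003000006f00000000002000003900000000000000000000000000000) (.leaf 0x1a0001240000a000002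00001080000d000002f00010800009000002e0001000000a00000590000e80000d00000680000e40000900000620000e400008000005f0000e40000600000260000e40000400000220000e40000300000710000e00000c00000100000e00000400000380000e000003000006c0000d80000a00000580000d800009000006a0000c80000d00000700000c40000d00000060000c40000200000530000c00000a00000490000c000009000005b0000bc0000a00000670000bc00009000001f0000ac0000a00000330000ac0000900000430000a00000900000040000940000c000000c0000900000d00000400000880000c000000f0000880000300000070000840000c000004800008400003000000a00007c0000d000001900007c00009000000300007c0000600000090000780000d000003700006c0000d000002900006c0000a000001500006c00009000004d00006c00004000003f00006c0000200000310000680000d000003d00006800002000001400006000009000001c00005c0000d000002b00005c00008000004f00005c0000200000270000580000d00000280000580000c000005d0000580000200000350000540000d))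

/-- Table data. -/
def orb0_0 : Tab :=
  orb0_0_0

end Cfsg.Lib.CosetEnum.ONL37
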