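import Cfsg.Agent.Lib.CosetEnum.Defs

/-! Generated table data. -/

set_option autoImplicit false
set_option maxRecDepth 20000

namespace Cfsg.Lib.CosetEnum.ONL37

/-- Table data. -/
def orb1_0_0 : Tab :=
  (.leaf 0x2f00007400003000001f00007000007000003300006c00007000003800006c00006000001000006c00000000001900006800003000000a00006400002000001a00006000004000002600006000003000002000005800006000001c00005800002000001600004800006000002d00004000007000003000004000006000001d00004000002000002e00003c00004000002200003c00003000002100003800003000000600002c00006000000c00002800007000002400002800002000000f00002800001000000900002000007000002a00002000002000003700001c00007000003400001c00006000002800001c00005000002900001c00004000001500001c00003000000d00001c00001000001400001c00000000003100001800007000002c00001800006000002700001800000000002300001400007000001e00001400006000003200001400004000002b00001400003000001800001400002000001b00001400000000003500001000007000003600001000006000001200001000000000000400000c00006000000300000c00002000000b00000c00000000000700000800006000000e00000800000000001100000400004000001700000400003000002500000400002000001300000400001000000500000000002000000200000000001000000800000000000000000100000000000)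

/-- Table data. -/
def orb1_0 : Tab :=
  orb1_0_0

end Cfsg.Lib.CosetEnum.ONL37
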