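import Cfsg.Agent.Lib.CosetEnum.Defs

/-! Generated table data. -/

set_option autoImplicit false
set_option maxRecDepth 20000

namespace Cfsg.Lib.CosetEnum.ONL37

/-- Table data. -/
def orb2_0_0 : Tab :=
  (.leaf 0x2d00009800002000001300009000004000003200007800003000000e00007000004000001200006800000000001800006400004000001b00006400003000002500006000004000002a00006000003000002700005800004000001e00005800001000003600005800000000003500004c00000000000b00004800001000000d00004800000000001000003800002000000c00003000001000002b00002c00003000000f00002c00002000000a00002c00001000000900002c00000000001d00002800003000001400002000004000003000002000001000002300002000000000002000001c00004000002100001c00003000002f00001c00000000001f00001800004000002200001800003000001900001800002000002e00001800000000003300001400004000003800001400003000001a00001000001000002600001000000000001c00000c00004000001600000c00001000002400000c00000000003700000800004000003400000800003000002800000800002000002900000800001000001500000800000000003100000400004000002c00000400003000001100000000001000001700000000000000000800000000000)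

/-- Table data. -/
def orb2_0 : Tab :=
  orb2_0_0

end Cfsg.Lib.CosetEnum.ONL37
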