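import Cfsg.Agent.Lib.CosetEnum.Defs

/-! Generated table data. -/

set_option autoImplicit false
set_option maxRecDepth 20000

namespace Cfsg.Lib.CosetEnum.ONL37

/-- Table data. -/
def pos0_0_0 : Tab :=
  (.node 1 (.leaf 0x4a00000000000000002600000000000000004800000000000000002f00000000000000002200000000000000001400000000000000000100000000000000006500000000000000004e00000000000000000400000000000000004000000000000000003400000000000000005a00000000000000002a00000000000000004900000000000000002e00000000000000006f00000000000000006e00000000000000000b00000000000000001700000000000000004500000000000000002c00000000000000004d00000000000000004200000000000000004300000000000000006900000000000000001900000000000000003700000000000000002000000000000000006800000000000000001600000000000000007000000000000000005b00000000000000000a00000000000000002b00000000000000004600000000000000002d00000000000000007100000000000000005100000000000000000c00000000000000001a00000000000000003500000000000000004c00000000000000004700000000000000001500000000000000001800000000000000001b00000000000000006600000000000000005500000000000000001e00000000000000001f00000000000000005700000000000000002400000000000000005200000000000000004f000000000000000005000000000000000054000000000000000060000000000000000025000000000000000058000000000000000050000000000000000021000000000000000013000000000000000000) (.leaf 0x6700000000000000006100000000000000000200000000000000003c00000000000000002700000000000000006400000000000000003d00000000000000006200000000000000003000000000000000006c00000000000000005c00000000000000000600000000000000000f00000000000000003e00000000000000001d00000000000000006b00000000000000003a00000000000000003b00000000000000006a00000000000000000e00000000000000004100000000000000003300000000000000005d00000000000000001000000000000000006d00000000000000006300000000000000000700000000000000003f00000000000000003600000000000000001c00000000000000005f00000000000000003900000000000000000d00000000000000003200000000000000004400000000000000003800000000000000004b00000000000000001100000000000000001200000000000000003100000000000000005e000000000000000053000000000000000008000000000000000029000000000000000028000000000000000009000000000000000059000000000000000023000000000000000003000000000000000056))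

/-- Table data. -/
def pos0_0 : Tab :=
  pos0_0_0

end Cfsg.Lib.CosetEnum.ONL37
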