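import Cfsg.Agent.Lib.CosetEnum.Defs

/-! Generated table data. -/

set_option autoImplicit false
set_option maxRecDepth 20000

namespace Cfsg.Lib.CosetEnum.ONL37

/-- Table data. -/
def tabV_0_0 : Tab :=
  (.node 1 (.leaf 0xfc0000000000000000cb00000000000000009a0000000000000000690000000000000000380000000000000000070000000000000000310000000000000001510000000000000001200000000000000000ef0000000000000000be00000000000000008d00000000000000005c00000000000000002b00000000000000014a0000000000000001190000000000000000e80000000000000000b70000000000000000860000000000000000550000000000000000240000000000000001430000000000000001120000000000000000e10000000000000000b000000000000000007f00000000000000004e00000000000000001d00000000000000013c00000000000000010b0000000000000000da0000000000000000a90000000000000000780000000000000000470000000000000000160000000000000001350000000000000001040000000000000000d30000000000000000a200000000000000007100000000000000004000000000000000000f00000000000000012e0000000000000000fd0000000000000000cc00000000000000009b00000000000000006a0000000000000000390000000000000000080000000000000001270000000000000000f60000000000000000c500000000000000009400000000000000006300000000000000003200000000000000000100000000000000012d0000000000000000fc0000000000000000cb00000000000000009a000000000000000069000000000000000038000000000000000007000000000000000031) (.leaf 0x1510000000000000001200000000000000000ef0000000000000000be00000000000000008d00000000000000005c00000000000000002b0000000000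0000014a0000000000000001190000000000000000e80000000000000000b70000000000000000860000000000000000550000000000000000240000000000000001430000000000000001120000000000000000e10000000000000000b000000000000000007f00000000000000004e00000000000000001d00000000000000013c00000000000000010b0000000000000000da0000000000000000a90000000000000000780000000000000000470000000000000000160000000000000001350000000000000001040000000000000000d30000000000000000a200000000000000007100000000000000004000000000000000000f00000000000000012e0000000000000000fd0000000000000000cc00000000000000009b00000000000000006a0000000000000000390000000000000000080000000000000001270000000000000000f60000000000000000c500000000000000009400000000000000006300000000000000003200000000000000000100000000000000012d))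

/-- Table data. -/
def tabV_0 : Tab :=
  tabV_0_0

end Cfsg.Lib.CosetEnum.ONL37
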