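import Cfsg.Agent.Lib.CosetEnum.ONL37.TabQ_Data0
import Cfsg.Agent.Lib.CosetEnum.ONL37.TabV_Data0
import Cfsg.Agent.Lib.CosetEnum.ONL37.Orb0_Data0
import Cfsg.Agent.Lib.CosetEnum.ONL37.Pos0_Data0
import Cfsg.Agent.Lib.CosetEnum.ONL37.Orb1_Data0
import Cfsg.Agent.Lib.CosetEnum.ONL37.Pos1_Data0
import Cfsg.Agent.Lib.CosetEnum.ONL37.Orb2_Data0
import Cfsg.Agent.Lib.CosetEnum.ONL37.Pos2_Data0
import Cfsg.Agent.Lib.CosetEnum.ONL37.Orb3_Data0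
import Cfsg.Agent.Lib.CosetEnum.ONL37.Pos3_Data0

/-! Generated certificate. -/

set_option autoImplicit false
set_option maxRecDepth 20000

namespace Cfsg.Lib.CosetEnum.ONL37

/-- Table. -/
def tabQ : Tab :=
  tabQ_0

/-- Table. -/
def tabV : Tab :=
  tabV_0

/-- Table. -/
def orb0 : Tab :=
  orb0_0

/-- Table. -/
def pos0 : Tab :=
  pos0_0

/-- Table. -/
def orb1 : Tab :=
  orb1_0

/-- Table. -/
def pos1 : Tab :=
  pos1_0

/-- Table. -/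
def orb2 : Tab :=
  orb2_0

/-- Table. -/
def pos2 : Tab :=
  pos2_0

/-- Table. -/
def orb3 : Tab :=
  orb3_0

/-- Table. -/
def pos3 : Tab :=
  pos3_0

/-- Generators of a level. -/
def words0 : List (List Nat) :=
  [[0],
    [1],
    [2],
    [3],
    [4],
    [5],
    [0, 4],
    [0, 2, 1, 0, 3, 2],
    [0, 2, 1, 3, 2, 1],
    [0, 2, 1, 3, 2, 4, 3, 2, 1, 0, 5, 4, 3, 2],
    [0, 2, 1, 3, 2, 4, 3, 2, 1, 5, 4, 3, 2, 1],
    [0, 1],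
    [3, 5],
    [4, 3, 5, 4]]

/-- A level of the base. -/
def level0 : BaseLevel :=
  ⟨orb0, pos0, 114, words0⟩

/-- Generators of a level. -/
def words1 : List (List Nat) :=
  [[0, 4],
    [0, 2, 1, 0, 3, 2],
    [0, 2, 1, 3, 2, 1],
    [0, 2, 1, 3, 2, 4, 3, 2, 1, 0, 5, 4, 3, 2],
    [0, 2, 1, 3, 2, 4, 3, 2, 1, 5, 4, 3, 2, 1],
    [0, 1],
    [3, 5],
    [4, 3, 5, 4]]

/-- A level of the base. -/
def level1 : BaseLevel :=
  ⟨orb1, pos1, 56, words1⟩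

/-- Generators of a level. -/
def words2 : List (List Nat) :=
  [[0, 2, 1, 3, 2, 4, 3, 2, 1, 0, 5, 4, 3, 2],
    [0, 2, 1, 3, 2, 4, 3, 2, 1, 5, 4, 3, 2, 1],
    [0, 1],
    [3, 5],
    [4, 3, 5, 4]]

/-- A level of the base. -/
def level2 : BaseLevel :=
  ⟨orb2, pos2, 49, words2⟩

/-- Generators of a level. -/
def words3 : List (List Nat) :=
  [[0, 1],
    [3, 5],
    [4, 3, 5, 4]]

/-- A level of the base. -/
def level3 : BaseLevel :=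
  ⟨orb3, pos3, 12, words3⟩

/-- Row-major matrices of the products of two generators. -/
def mats : List (List Nat) :=
  [[1, 0, 0, 0, 2, 0, 0, 0, 4],
    [1, 2, 2, 2, 1, 5, 2, 5, 1],
    [0, 0, 3, 0, 3, 0, 3, 0, 0],
    [0, 1, 0, 1, 0, 0, 0, 0, 6],
    [0, 0, 1, 0, 6, 0, 1, 0, 0]]

/-- Their inverse transposes. -/
def dualMats : List (List Nat) :=
  [[1, 0, 0, 0, 4, 0, 0, 0, 2],
    [4, 1, 1, 1, 4, 6, 1, 6, 4],
    [0, 0, 5, 0, 5, 0, 5, 0, 0],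
    [0, 1, 0, 1, 0, 0, 0, 0, 6],
    [0, 0, 1, 0, 6, 0, 1, 0, 0]]

end Cfsg.Lib.CosetEnum.ONL37
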