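import Cfsg.Agent.Lib.CosetEnum.Defs

/-! Generated table data. -/

set_option autoImplicit false
set_option maxRecDepth 20000

namespace Cfsg.Lib.CosetEnum.ONL37

/-- Table data. -/
def orb3_0_0 : Tab :=
  (.leaf 0x1900002000002000002900001400002000002e00001000002000002f00001000001000001500000800002000002200000400002000001f00000400001000001a00000400000000003800000000002000003300000000001000002600000000000000001000000000000)

/-- Table data. -/
def orb3_0 : Tab :=
  orb3_0_0

end Cfsg.Lib.CosetEnum.ONL37
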